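import Cfsg.Agent.H396.HexGen
import Cfsg.Agent.Mrg.Omega.EH3.Kf.TableSL
import Cfsg.Agent.Mrg.Omega.EH3.Kf.FamD4
import Cfsg.Agent.Hexagon.G2Par
import Cfsg.Agent.Hexagon.TwD4Par

/-!
# `CommGen` for `G₂(q)`, `q ≥ 4`, and `³D₄(q)` (helper396's proofs, CommTab2 and CommTab3, with few imports) (helper644)
-/

set_option autoImplicit false
set_option linter.unusedSectionVars false
set_option maxHeartbeats 400000

namespace Cfsg.Agent.H644.R2.CommL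

open Cfsg
open CoxeterSystem Cfsg.Agent.ChevalleyStructure.CoxeterGeom Cfsg.Agent.Tits.Roots Cfsg.Agent.Tits.Core
open Cfsg.Agent.Nodes Cfsg.Agent.Nodes.BNOf Cfsg.Agent.Nodes.RGDLib Cfsg.Agent.Nodes.RGDChev
open Cfsg.Agent.Omega.EH3.Kf Cfsg.Agent.Omega.EH3.Kf.Lev Cfsg.Agent.H396
open scoped commutatorElement

/-! ### `G₂(q)` -/

section G2

open Cfsg.Lie Cfsg.Agent.ChevalleyStructure Cfsg.Agent.ChevalleyStructure.Elts
open Cfsg.Agent.Hexagon.G2Par Cfsg.Agent.Hexagon.G2Rel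

universe u

variable (K : Type u) [Field K]

theorem xG_eq (r : ℕ) (t : K) : (Cfsg.Agent.ChevalleyStructure.G2N.xG r t : GL chevG2.Idx K) =
    xG FamG2.isType.inList r t := Units.ext rfl

theorem commGen_G2 (hK : ∃ a a' : K, a ≠ 0 ∧ a ≠ 1 ∧ a' ≠ 0 ∧ a' ≠ 1 ∧ a ≠ a') :
    CommGen CoxeterMatrix.G₂.toCoxeterSystem FamG2.isType.isCartan
      (fun x => (XV chevG2 2 K x).subgroupOf (chevG2.group K)) := by
  set X : (Fin 2 → ℤ) → Subgroup ↥(chevG2.group K) := fun x => (XV chevG2 2 K x).subgroupOf (chevG2.group K) with hX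
  set U := RGD.Sup X (RGD.Pos CoxeterMatrix.G₂.toCoxeterSystem FamG2.isType.isCartan) with hU
  have hmem : ∀ {r : ℕ}, r < 12 → (r = 6 ∨ r = 7 ∨ r = 8 ∨ r = 9 ∨ r = 10 ∨ r = 11) →
      ∀ g : ↥(chevG2.group K), (∃ t, (g : GL chevG2.Idx K) = Cfsg.Agent.ChevalleyStructure.G2N.xG r t) → g ∈ U := by
    intro r hr h g hg
    have hx : vec chevG2 2 r ∈ RGD.Pos CoxeterMatrix.G₂.toCoxeterSystem FamG2.isType.isCartan :=
      ⟨isRoot_vec FamG2.isType CoxeterMatrix.G₂.toCoxeterSystem hr, fun k => FamG2.pos_tab' r hr h k⟩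
    refine RGD.le_Sup (X := X) hx ((Omega.EH3.Kf.FamChev.mem_X_iff FamG2.isType hr).2 ?_)
    obtain ⟨t, ht⟩ := hg
    exact ⟨t, by rw [ht, xG_eq]⟩
  obtain ⟨g2, g3, g4, g5⟩ := HexGen.gen_one (hexRel' (K := K)) (U := U)
    (fun a => hmem (r := 7) (by norm_num) (by norm_num) _ ⟨_, rfl⟩)
    (fun a => hmem (r := 10) (by norm_num) (by norm_num) _ ⟨_, rfl⟩)
    (fun a => hmem (r := 9) (by norm_num) (by norm_num) _ ⟨_, rfl⟩)
    (fun a => hmem (r := 11) (by norm_num) (by norm_num) _ ⟨_, rfl⟩)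
    (fun a => hmem (r := 8) (by norm_num) (by norm_num) _ ⟨_, rfl⟩)
    (fun a => hmem (r := 6) (by norm_num) (by norm_num) _ ⟨_, rfl⟩) hK
  intro x hx h0 hs
  obtain ⟨r, hr, rfl⟩ := (Nodes.RGDChev.isRoot_iff FamG2.isType _ _).1 hx
  have h1 := FamG2.pos_tab r hr (fun k => h0 k)
  have h2 : r = 8 ∨ r = 9 ∨ r = 10 ∨ r = 11 := by
    rcases h1 with rfl | rfl | h1
    · exact absurd FamG2.vec6 (hs 1)
    · exact absurd FamG2.vec7 (hs 0)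
    · exact h1
  intro g hg
  obtain ⟨t, ht⟩ := (Omega.EH3.Kf.FamChev.mem_X_iff FamG2.isType hr).1 hg
  rcases h2 with rfl | rfl | rfl | rfl
  · have e : g = y5 t := Subtype.ext (by rw [ht, ← xG_eq]; rfl)
    rw [e]; exact g5 t
  · have e : g = y3 (-t) := Subtype.ext (by
      rw [ht, ← xG_eq]
      change _ = Cfsg.Agent.ChevalleyStructure.G2N.xG 9 (- -t)
      rw [neg_neg])
    rw [e]; exact g3 (-t)
  · have e : g = y2 (-t) := Subtype.ext (by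
      rw [ht, ← xG_eq]
      change _ = Cfsg.Agent.ChevalleyStructure.G2N.xG 10 (- -t)
      rw [neg_neg])
    rw [e]; exact g2 (-t)
  · have e : g = y4 t := Subtype.ext (by rw [ht, ← xG_eq]; rfl)
    rw [e]; exact g4 t

end G2

/-! ### `³D₄(q)` -/

section D4

open CoxeterSystem Cfsg.Agent.ChevalleyStructure.CoxeterGeom Cfsg.Agent.Tits.Roots Cfsg.Agent.Tits.Core
  Cfsg.Agent.Nodes.BNOf Cfsg.Agent.Nodes.RGDTwGen Cfsg.Agent.Nodes.RGDChev Cfsg.Agent.Nodes.RGDFold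
open Cfsg.Lie Cfsg.Agent.ChevalleyStructure
  Cfsg.Agent.ChevalleyStructure.TwistedU Cfsg.Agent.ChevalleyStructure.TwistedFix
open Cfsg.Agent.ChevalleyStructure.D4Fixed (sig)
open Cfsg.Agent.ChevalleyStructure.D4U
open Cfsg.Agent.Nodes Cfsg.Agent.Nodes.RGDTwD4 Cfsg.Agent.Hexagon
open Cfsg.Agent.SplitTwo (HexPar HexRel)
open Cfsg.Agent.Omega.EH3.Kf Cfsg.Agent.Omega.EH3.Kf.Lev

universe v

variable {K : Type v} [Field K] [Fintype K] {q : ℕ} {φ : K →+* K}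

theorem commGen_D4 (hK : Fintype.card K = q ^ 3) (hφ : ∀ x, φ x = x ^ q) :
    CommGen CoxeterMatrix.G₂.toCoxeterSystem RGDTwD4.isCartan (RGDTwD4.X φ q) := by
  let σ : K ≃+* K := RingEquiv.ofBijective φ ((Finite.injective_iff_bijective).1 φ.injective)
  have hσ : ∀ x, σ x = φ x := fun x => rfl
  have h3 : ∀ a, σ (σ (σ a)) = a := by
    intro t
    rw [hσ, hσ, hσ, hφ, hφ, hφ, ← pow_mul, ← pow_mul]
    have : q * (q * q) = q ^ 3 := by ring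
    rw [this, ← hK]
    exact FiniteField.pow_card t
  have hle := D4Fixed.twisted_le_fix hK hφ
  have P := TwD4Par.hexPar hφ hle hσ h3
  let cs := CoxeterMatrix.G₂.toCoxeterSystem
  have hlt : ∀ r : ℕ, r < 24 → r < chevD4.nroots := fun r hr => hr
  have hle' : ∀ {z : Fin 2 → ℤ}, z ∈ RGD.Pos cs RGDTwD4.isCartan →
      RGDTwD4.X φ q z ≤ RGD.Sup (RGDTwD4.X φ q) (RGD.Pos cs RGDTwD4.isCartan) := fun hz => RGD.le_Sup hz
  have p0 : (sr 0 : Fin 2 → ℤ) ∈ RGD.Pos cs RGDTwD4.isCartan := ⟨isRoot_sr cs _ 0, sr_nonneg 0⟩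
  have p1 : (sr 1 : Fin 2 → ℤ) ∈ RGD.Pos cs RGDTwD4.isCartan := ⟨isRoot_sr cs _ 1, sr_nonneg 1⟩
  have p5 : V chevD4 J 19 ∈ RGD.Pos cs RGDTwD4.isCartan :=
    ⟨FamD4.isRoot_V cs (hlt 19 (by norm_num)), fun k => (FamD4.pos_tab k).1.le⟩
  have p3 : V chevD4 J 20 ∈ RGD.Pos cs RGDTwD4.isCartan :=
    ⟨FamD4.isRoot_V cs (hlt 20 (by norm_num)), fun k => (FamD4.pos_tab k).2.1.le⟩
  obtain ⟨B, hB⟩ := FamD4.exists_moved hK hφ
  have hU := (RGD.Sup (RGDTwD4.X φ q) (RGD.Pos cs RGDTwD4.isCartan))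
  have m1 : ∀ a, (TwD4Par.ev (TwD4Rel.X1 σ) : K → ↥(twistedD4 K q)) a ∈
      RGD.Sup (RGDTwD4.X φ q) (RGD.Pos cs RGDTwD4.isCartan) :=
    fun a => hle' p1 (by rw [FamD4.X_sr1 hle, P.mem1]; exact ⟨a, rfl⟩)
  have hgen : (∀ t, σ t = t → (TwD4Par.ev TwD4Rel.X2 : K → ↥(twistedD4 K q)) t ∈
        ⁅RGD.Sup (RGDTwD4.X φ q) (RGD.Pos cs RGDTwD4.isCartan), RGD.Sup (RGDTwD4.X φ q) (RGD.Pos cs RGDTwD4.isCartan)⁆) ∧
      (∀ a, (TwD4Par.ev (TwD4Rel.X3 σ) : K → ↥(twistedD4 K q)) a ∈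
        ⁅RGD.Sup (RGDTwD4.X φ q) (RGD.Pos cs RGDTwD4.isCartan), RGD.Sup (RGDTwD4.X φ q) (RGD.Pos cs RGDTwD4.isCartan)⁆) ∧
      (∀ t, σ t = t → (TwD4Par.ev TwD4Rel.X4 : K → ↥(twistedD4 K q)) t ∈
        ⁅RGD.Sup (RGDTwD4.X φ q) (RGD.Pos cs RGDTwD4.isCartan), RGD.Sup (RGDTwD4.X φ q) (RGD.Pos cs RGDTwD4.isCartan)⁆) ∧
      (∀ a, (TwD4Par.ev (TwD4Rel.X5 σ) : K → ↥(twistedD4 K q)) a ∈
        ⁅RGD.Sup (RGDTwD4.X φ q) (RGD.Pos cs RGDTwD4.isCartan), RGD.Sup (RGDTwD4.X φ q) (RGD.Pos cs RGDTwD4.isCartan)⁆) := by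
    have m3 : ∀ a, (TwD4Par.ev (TwD4Rel.X3 σ) : K → ↥(twistedD4 K q)) a ∈
        RGD.Sup (RGDTwD4.X φ q) (RGD.Pos cs RGDTwD4.isCartan) :=
      fun a => hle' p3 (by rw [FamD4.X_20 hle, P.mem3]; exact ⟨a, rfl⟩)
    have m5 : ∀ a, (TwD4Par.ev (TwD4Rel.X5 σ) : K → ↥(twistedD4 K q)) a ∈
        RGD.Sup (RGDTwD4.X φ q) (RGD.Pos cs RGDTwD4.isCartan) :=
      fun a => hle' p5 (by rw [FamD4.X_19 hle, P.mem5]; exact ⟨a, rfl⟩)
    have m6 : ∀ t, σ t = t → (TwD4Par.ev TwD4Rel.X6 : K → ↥(twistedD4 K q)) t ∈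
        RGD.Sup (RGDTwD4.X φ q) (RGD.Pos cs RGDTwD4.isCartan) :=
      fun t ht => hle' p0 (by rw [FamD4.X_sr0 hle, P.mem6]; exact ⟨t, ht, rfl⟩)
    by_cases h2 : (2 : K) = 0
    · have : CharP K 2 := CharTwo.of_one_ne_zero_of_two_eq_zero one_ne_zero h2
      exact FamD4.hexGen P.rel m1 m3 m5 m6 ⟨B, hB⟩
    · exact HexGen.gen_ne P.rel h2 m1 m3 m5 m6 ⟨B, hB⟩
  obtain ⟨g2, g3, g4, g5⟩ := hgen
  intro z hz h0 hs
  rcases FamD4.pos_cases cs hz h0 hs with rfl | rfl | rfl | rfl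
  · rw [FamD4.X_19 hle]
    intro g hg
    obtain ⟨a, rfl⟩ := (P.mem5 g).1 hg
    exact g5 a
  · rw [FamD4.X_20 hle]
    intro g hg
    obtain ⟨a, rfl⟩ := (P.mem3 g).1 hg
    exact g3 a
  · rw [FamD4.X_22 hle]
    intro g hg
    obtain ⟨t, ht, rfl⟩ := (P.mem2 g).1 hg
    exact g2 t ht
  · rw [FamD4.X_23 hle]
    intro g hg
    obtain ⟨t, ht, rfl⟩ := (P.mem4 g).1 hg
    exact g4 t ht

end D4

end Cfsg.Agent.H644.R2.CommL
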