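import Cfsg.Agent.Mrg.ParSys.Fam.Rgd
import Cfsg.Agent.Mrg.KFacts.RgdPerf

/-!
# Automorphisms fixing the simple root groups and their opposites (S4829, helper644)

* `PJ_single` : `P_i = ⟨B, X_{-i}⟩`;
* `U_eq_iSup` : `U` is generated by the simple root groups;
* `map_B`, `map_PJ` : an automorphism fixing `X_i` and `X_{-i}` for all `i` fixes `B` and `P_i`;
* `map_PJ_of_conj` : if `a = conj g * β` fixes `X_i`, `X_{-i}` for all `i` and `β` fixes `B`, then `β` fixes `P_i`.
-/

set_option autoImplicit false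
set_option linter.unusedSectionVars false

namespace Cfsg.Agent.H644.R2

open CoxeterSystem Cfsg.Agent.ChevalleyStructure.CoxeterGeom Cfsg.Agent.Tits.Roots Cfsg.Agent.Tits.Core
  Cfsg.Agent.Nodes.Reps Cfsg.Agent.Nodes.BNOf Cfsg.Agent.Nodes.Bruhat Cfsg.Agent.Nodes.LeviDec
open Cfsg.Agent.Omega.EH3.Kf.Lev (CommGen)
open scoped commutatorElement

variable {I W Y : Type*} [Fintype I] [DecidableEq I] [Group W] [Group Y] {M : CoxeterMatrix I}
  {cs : CoxeterSystem M W} {A : I → I → ℤ} {h : IsCartan M A} {p : ℕ} {T : Subgroup Y} {n : I → Y}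
  {X : (I → ℤ) → Subgroup Y}

theorem PJ_single (i : I) : PJ cs h T X {i} = RGD.B cs h T X ⊔ X (-sr i) := by
  apply le_antisymm
  · refine sup_le (sup_le (RGD.T_le_B.trans le_sup_left) (RGD.Sup_le fun x hx => ?_))
      ((VJ_le_B {i}).trans le_sup_left)
    have h1 : x = sr i ∨ x = -sr i := by
      obtain ⟨hr, h0⟩ := hx
      rcases hr.pos_or_neg with h2 | h2
      · exact Or.inl (hr.eq_sr h2 i fun k hk => h0 k hk)
      · right
        have h3 := hr.neg.eq_sr (neg_nonneg.2 h2) i fun k hk => by rw [Pi.neg_apply, h0 k hk, neg_zero]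
        rw [← h3, neg_neg]
    rcases h1 with rfl | rfl
    · exact (RGD.X_le_B (isRoot_sr cs h i) (sr_nonneg i)).trans le_sup_left
    · exact le_sup_right
  · refine sup_le B_le_PJ ?_
    refine le_trans ?_ (LJ_le_PJ (J := {i}))
    refine X_le_LJ (cs := cs) (h := h) ?_
    exact ⟨(isRoot_sr cs h i).neg, fun k hk => by
      rw [Pi.neg_apply, sr_ne (fun h1 => hk (by rw [h1]; rfl)), neg_zero]⟩

theorem U_eq_iSup [Finite W] [Finite Y] [Fact p.Prime] (R : RGD cs h p T n X) (hC : CommGen cs h X) :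
    RGD.Sup X (RGD.Pos cs h) = ⨆ i, X (sr i) := by
  have h0 : (⨆ i, X (sr i)) ≤ RGD.Sup X (RGD.Pos cs h) :=
    iSup_le fun i => RGD.le_Sup ⟨isRoot_sr cs h i, sr_nonneg i⟩
  refine le_antisymm (ParSys.Fam.le_of_sup_commutator R.isPGroup_Upos h0 (RGD.Sup_le fun x hx => ?_)) h0
  by_cases hs : ∃ i, x = sr i
  · obtain ⟨i, rfl⟩ := hs
    exact (le_iSup (fun i => X (sr i)) i).trans le_sup_left
  · push Not at hs
    exact (hC x hx.1 hx.2 hs).trans le_sup_right

theorem map_normalizer {K : Type*} [Group K] {H : Subgroup K} {β : MulAut K} (hβ : H.map β.toMonoidHom = H) :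
    (Subgroup.normalizer (H : Set K)).map β.toMonoidHom = Subgroup.normalizer (H : Set K) := by
  have h2 : ∀ z : K, β z ∈ H ↔ z ∈ H := by
    intro z
    constructor
    · intro hz
      rw [← hβ] at hz
      obtain ⟨w, hw, hwz⟩ := hz
      exact β.injective hwz ▸ hw
    · intro hz
      rw [← hβ]
      exact ⟨z, hz, rfl⟩
  have h3 : ∀ g : K, β g ∈ Subgroup.normalizer (H : Set K) ↔ g ∈ Subgroup.normalizer (H : Set K) := by
    intro g
    rw [Subgroup.mem_normalizer_iff, Subgroup.mem_normalizer_iff]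
    constructor
    · intro h4 x
      have h5 := h4 (β x)
      rw [h2, ← map_mul, ← map_inv, ← map_mul, h2] at h5
      exact h5
    · intro h4 x
      obtain ⟨y, rfl⟩ := β.surjective x
      rw [h2, ← map_mul, ← map_inv, ← map_mul, h2]
      exact h4 y
  ext g
  constructor
  · rintro ⟨k, hk, rfl⟩
    exact (h3 k).2 hk
  · intro hg
    obtain ⟨k, rfl⟩ := β.surjective g
    exact ⟨k, (h3 k).1 hg, rfl⟩

section

variable [Finite W] [Finite Y] [Fact p.Prime] (R : RGD cs h p T n X) (hG : GG cs h T X = ⊤) (hC : CommGen cs h X)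
  {a : MulAut Y} (h1 : ∀ i, (X (sr i)).map a.toMonoidHom = X (sr i))

include R hG hC h1

theorem map_B : (RGD.B cs h T X).map a.toMonoidHom = RGD.B cs h T X := by
  have hU : (RGD.Sup X (RGD.Pos cs h)).map a.toMonoidHom = RGD.Sup X (RGD.Pos cs h) := by
    rw [U_eq_iSup R hC, Subgroup.map_iSup]
    exact iSup_congr h1
  have hN := Nodes.NormalForm.normalizer_U R
  rw [hG, inf_top_eq] at hN
  rw [← hN]
  exact map_normalizer hU

theorem map_PJ (h2 : ∀ i, (X (-sr i)).map a.toMonoidHom = X (-sr i)) (i : I) :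
    (PJ cs h T X {i}).map a.toMonoidHom = PJ cs h T X {i} := by
  rw [PJ_single, Subgroup.map_sup, map_B R hG hC h1, h2]

end

theorem map_conj_of_mem {K : Type*} [Group K] {H : Subgroup K} {g : K} (hg : g ∈ H) :
    H.map (MulAut.conj g).toMonoidHom = H := by
  ext x
  constructor
  · rintro ⟨y, hy, rfl⟩
    exact mul_mem (mul_mem hg hy) (inv_mem hg)
  · intro hx
    refine ⟨g⁻¹ * x * g, mul_mem (mul_mem (inv_mem hg) hx) hg, ?_⟩
    show g * (g⁻¹ * x * g) * g⁻¹ = x
    group

theorem map_mul_aut {K : Type*} [Group K] (H : Subgroup K) (α β : MulAut K) :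
    H.map (α * β).toMonoidHom = (H.map β.toMonoidHom).map α.toMonoidHom := by
  rw [Subgroup.map_map]; rfl

theorem map_inv_aut {K : Type*} [Group K] {H : Subgroup K} {β : MulAut K} (hβ : H.map β.toMonoidHom = H) :
    H.map (β⁻¹).toMonoidHom = H := by
  conv_lhs => rw [← hβ]
  rw [← map_mul_aut, inv_mul_cancel]
  ext x
  constructor
  · rintro ⟨y, hy, rfl⟩; exact hy
  · intro hx; exact ⟨x, hx, rfl⟩

/-- `N(B) = B` -/
theorem normalizer_B [Finite W] (R : RGD cs h p T n X) (hG : GG cs h T X = ⊤) :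
    Subgroup.normalizer (RGD.B cs h T X : Set Y) = RGD.B cs h T X := by
  have h4 := inf_eq_PJ R (P := Subgroup.normalizer (RGD.B cs h T X : Set Y)) Subgroup.le_normalizer
  rw [hG, inf_top_eq] at h4
  rw [h4]
  have hJ : {i | n i ∈ Subgroup.normalizer (RGD.B cs h T X : Set Y)} = ∅ := by
    rw [Set.eq_empty_iff_forall_notMem]
    intro i hi
    obtain ⟨u, hu, hu1⟩ := exists_ne_one R i
    apply hu1
    refine eq_one_of_conj_mem_B R hu (rp_simple cs R.nsys i) ?_
    exact (Subgroup.mem_normalizer_iff.1 hi u).1 (RGD.X_le_B (isRoot_sr cs h i) (sr_nonneg i) hu)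
  rw [hJ]
  apply le_antisymm _ B_le_PJ
  intro g hg
  obtain ⟨w, hw, hc⟩ := (mem_PJ_iff_cell R).1 hg
  have hw1 : w = 1 := by
    unfold WJ at hw
    rwa [Set.image_empty, Subgroup.closure_empty, Subgroup.mem_bot] at hw
  subst hw1
  exact hc.mem_of_one

/-- **an automorphism fixing `B` fixes `P_i`** if modulo inner automorphisms it fixes the simple root groups and their
opposites -/
theorem map_PJ_of_conj [Finite W] [Finite Y] [Fact p.Prime] (R : RGD cs h p T n X) (hG : GG cs h T X = ⊤)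
    (hC : CommGen cs h X) {β : MulAut Y} {g : Y}
    (hβ : (RGD.B cs h T X).map β.toMonoidHom = RGD.B cs h T X)
    (h1 : ∀ i, (X (sr i)).map (MulAut.conj g * β).toMonoidHom = X (sr i))
    (h2 : ∀ i, (X (-sr i)).map (MulAut.conj g * β).toMonoidHom = X (-sr i)) (i : I) :
    (PJ cs h T X {i}).map β.toMonoidHom = PJ cs h T X {i} := by
  have hB := map_B R hG hC h1
  rw [map_mul_aut, hβ] at hB
  -- `g` normalises `B`
  have hg : g ∈ RGD.B cs h T X := by
    rw [← normalizer_B R hG, Subgroup.mem_normalizer_iff]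
    intro x
    constructor
    · intro hx
      rw [← hB]
      exact ⟨x, hx, rfl⟩
    · intro hx
      rw [← hB] at hx
      obtain ⟨y, hy, hyx⟩ := hx
      have h4 : g * y * g⁻¹ = g * x * g⁻¹ := hyx
      have h5 : y = x := mul_left_cancel (mul_right_cancel h4)
      exact h5 ▸ hy
  have h3 := map_PJ R hG hC h1 h2 i
  rw [map_mul_aut] at h3
  have h4 : g⁻¹ ∈ PJ cs h T X {i} := inv_mem (B_le_PJ hg)
  have h5 : (PJ cs h T X {i}).map β.toMonoidHom =
      ((PJ cs h T X {i}).map β.toMonoidHom).map (MulAut.conj g⁻¹ * MulAut.conj g).toMonoidHom := by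
    rw [← map_mul, inv_mul_cancel, map_one]
    ext x
    constructor
    · intro hx; exact ⟨x, hx, rfl⟩
    · rintro ⟨y, hy, rfl⟩; exact hy
  rw [h5, map_mul_aut, h3]
  exact map_conj_of_mem h4

end Cfsg.Agent.H644.R2
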