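import Cfsg.Agent.FixOdd.TwOf
import Cfsg.Agent.H707.GalTrace
import Cfsg.Agent.H770.CY.Defs

/-!
# S4829, `p = 2`: the Steinberg character is fixed by all automorphisms (helper644)

* `exists_st` : a finite group with a split (B,N)-pair of characteristic `p` has an irreducible rational valued
  character of degree `|Q|`, `Q` a Sylow `p`-subgroup, vanishing on `Q \ 1`, fixed by all automorphisms;
* `row2_of_hasSplit` : `Row2` in odd characteristic.
-/

set_option autoImplicit false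
set_option linter.unusedSectionVars false

namespace Cfsg.Agent.H644.R2

open Cfsg Cfsg.Agent.Tits.Core Cfsg.Agent.Tits.Core.Bldg Cfsg.Agent.FixBN Representation

section St

variable {I : Type*} {M : CoxeterMatrix I} {W : Type*} [Group W] {cs : CoxeterSystem M W} {C : Type*}
  [Fintype C] {Δ : Bldg cs C} {G : Type*} [Group G] [MulAction G C]

theorem mem_Pan_θ (t : FixOdd.Tw Δ G) (i : I) (x y : C) : t.θ y ∈ Δ.Pan (t.σ i) (t.θ x) ↔ y ∈ Δ.Pan i x := by
  rw [Δ.mem_Pan, Δ.mem_Pan, t.δ_θ, ← t.φ_simple, t.φ.injective.eq_iff, t.θ.injective.eq_iff]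

open Classical in
theorem psum_θ (t : FixOdd.Tw Δ G) (i : I) (x : C) (f : C → ℂ) :
    H163.Steinberg.psum Δ (t.σ i) (t.θ x) (fun y => f (t.θ.symm y)) = H163.Steinberg.psum Δ i x f := by
  unfold H163.Steinberg.psum
  refine (Fintype.sum_equiv t.θ _ _ fun y => ?_).symm
  simp only [Equiv.symm_apply_apply]
  by_cases h : y ∈ Δ.Pan i x
  · rw [if_pos h, if_pos ((mem_Pan_θ t i x y).2 h)]
  · rw [if_neg h, if_neg fun h' => h ((mem_Pan_θ t i x y).1 h')]

/-- the action of an automorphism on the Steinberg space -/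
noncomputable def Th (t : FixOdd.Tw Δ G) : H163.Steinberg.St Δ ≃ₗ[ℂ] H163.Steinberg.St Δ where
  toFun f := ⟨fun y => (f : C → ℂ) (t.θ.symm y), by
    intro i x
    have h1 := psum_θ t (t.σ.symm i) (t.θ.symm x) (f : C → ℂ)
    rw [Equiv.apply_symm_apply, Equiv.apply_symm_apply] at h1
    rw [h1]
    exact f.2 _ _⟩
  invFun f := ⟨fun y => (f : C → ℂ) (t.θ y), by
    intro i x
    have h1 := psum_θ t i x (fun y => (f : C → ℂ) (t.θ y))
    simp only [Equiv.apply_symm_apply] at h1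
    rw [← h1]
    exact f.2 _ _⟩
  left_inv f := by
    apply Subtype.ext
    funext x
    simp
  right_inv f := by
    apply Subtype.ext
    funext x
    simp
  map_add' f g := rfl
  map_smul' c f := rfl

theorem Th_apply (t : FixOdd.Tw Δ G) (f : H163.Steinberg.St Δ) (x : C) :
    (Th t f : C → ℂ) x = (f : C → ℂ) (t.θ.symm x) := rfl

theorem rep_Th (hiso : ∀ (g : G) (x y : C), Δ.δ (g • x) (g • y) = Δ.δ x y) (t : FixOdd.Tw Δ G) (g : G)
    (f : H163.Steinberg.St Δ) :
    H163.Steinberg.rep hiso (t.τ g) (Th t f) = Th t (H163.Steinberg.rep hiso g f) := by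
  apply Subtype.ext
  funext x
  rw [H163.Steinberg.rep_apply, Th_apply, Th_apply, H163.Steinberg.rep_apply]
  have h1 : t.θ.symm ((t.τ g)⁻¹ • x) = g⁻¹ • t.θ.symm x := by
    rw [Equiv.symm_apply_eq, t.θ_smul, map_inv, Equiv.apply_symm_apply]
  rw [h1]

theorem character_τ (hiso : ∀ (g : G) (x y : C), Δ.δ (g • x) (g • y) = Δ.δ x y) (t : FixOdd.Tw Δ G) (g : G) :
    (H163.Steinberg.rep hiso).character (t.τ g) = (H163.Steinberg.rep hiso).character g := by
  have h1 : H163.Steinberg.rep hiso (t.τ g) = (Th t).conj (H163.Steinberg.rep hiso g) := by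
    refine LinearMap.ext fun f => ?_
    obtain ⟨f, rfl⟩ := (Th t).surjective f
    rw [rep_Th, LinearEquiv.conj_apply_apply, LinearEquiv.symm_apply_apply]
  show LinearMap.trace ℂ _ (H163.Steinberg.rep hiso (t.τ g)) = LinearMap.trace ℂ _ (H163.Steinberg.rep hiso g)
  rw [h1, LinearMap.trace_conj']

end St

/-- **The Steinberg character** of a group with a split (B,N)-pair. -/
theorem exists_st {K : Type*} [Group K] [Finite K] {p : ℕ} [Fact p.Prime] (h : FixBN.HasSplit p K) :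
    ∃ χ : K → ℂ, IsIrrCharacter K χ ∧ (∀ g : K, ∃ q : ℚ, χ g = q) ∧
      (∀ Q : Sylow p K, χ 1 = Nat.card Q ∧ ∀ x : K, x ∈ Q → x ≠ 1 → χ x = 0) ∧
      ∀ (α : MulAut K) (g : K), χ (α g) = χ g := by
  obtain ⟨P, U, -, h⟩ := h
  have hN : ((P.B ⊓ P.N).subgroupOf P.N).Normal := Tits.OfBN.normal_subgroupOf P
  obtain ⟨M, cs, hcs⟩ := S0320.result P
  have S := FixBN.OfBN.sys (Equiv.refl P.S) cs hcs h
  have hft : Fintype (K ⧸ P.B) := Fintype.ofFinite _
  have hopp : ∀ c, ∃ d, (Tits.OfBN.bldg P (Equiv.refl P.S) cs hcs).Opp c d := fun c => Tits.Opp.exists_opp _ c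
  have ht : ∀ x y : K ⧸ P.B, ∃ g : K, g • x = y := fun x y => MulAction.exists_smul_eq K x y
  have hirr := H163.Steinberg.isIrreducible S ht (QuotientGroup.mk 1) (hopp _)
  refine ⟨(H163.Steinberg.rep (G := K) S.iso).character, Characters.Core.isIrrCharacter_of_rep _ hirr,
    H707.GalTrace.rat_character _ S, fun Q => ?_, fun α g => ?_⟩
  · obtain ⟨c, hc⟩ := S.exists_fix Q Q.isPGroup'
    have hQ : (Q : Subgroup K) = S.U c :=
      (Q.is_maximal' (S.isP c) (S.max c Q Q.isPGroup' hc)).symm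
    constructor
    · rw [H163.Steinberg.character_apply S c (hopp c) 1 (one_mem _), if_pos rfl, ← hQ]
    · intro x hx hx1
      have hx' : x ∈ S.U c := by rw [← hQ]; exact hx
      rw [H163.Steinberg.character_apply S c (hopp c) x hx', if_neg hx1]
  · obtain ⟨t, hτ, -⟩ := FixOdd.exists_tw h (Equiv.refl P.S) cs hcs α
    rw [← hτ]
    exact character_τ S.iso t g

/-- **`Row2` in odd characteristic.** -/
theorem row2_of_hasSplit {K : Type*} [Group K] [Finite K] {p : ℕ} (hp : p.Prime) (hp2 : p ≠ 2)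
    (h : FixBN.HasSplit p K) : H770.CY.Row2 K := by
  have : Fact p.Prime := ⟨hp⟩
  obtain ⟨χ, h1, h2, h3, h4⟩ := exists_st h
  intro B _
  obtain ⟨Q⟩ : Nonempty (Sylow p K) := inferInstance
  obtain ⟨k, hk⟩ := Q.isPGroup'.exists_card_eq
  refine ⟨⟨χ, h1⟩, ?_, ?_, ?_, fun b _ x => h4 b x⟩
  · show χ ≠ _
    rintro rfl
    obtain ⟨P, U, ⟨s, hs⟩, hU⟩ := h
    obtain ⟨V, hV⟩ := hU.node s hs
    obtain ⟨u, hu, huV⟩ := hV.ne
    have hu1 : u ≠ 1 := fun h => huV (h ▸ one_mem V)
    obtain ⟨Q, hQ⟩ := hU.isP.exists_le_sylow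
    exact one_ne_zero ((h3 Q).2 u (hQ hu) hu1)
  · show Odd (charDegree χ)
    unfold charDegree
    rw [(h3 Q).1, hk, Complex.natCast_re, Nat.floor_natCast]
    exact (hp.odd_of_ne_two hp2).pow
  · intro m hm _ g
    exact (Characters.GaloisBasic.exists_rat_iff (Characters.Core.isIrr_isCharacter h1) g).1 (h2 g) m hm

end Cfsg.Agent.H644.R2
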